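import Mathlib

/-!
# Azumaya algebras: base change and endomorphism algebras of projective modules
-/

open scoped TensorProduct
open MulOpposite

namespace Groth.Agent.AzumayaAlg

universe u v w

variable {R : Type u} [CommRing R]

/-- A faithful finite projective module is faithfully flat. -/
theorem faithfullyFlat_of_faithful (P : Type v) [AddCommGroup P] [Module R P] [Module.Finite R P]
    [Module.Projective R P] [FaithfulSMul R P] : Module.FaithfullyFlat R P := by
  refine (Module.FaithfullyFlat.iff_flat_and_proper_ideal R P).2 ⟨inferInstance, fun I hI h => hI ?_⟩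
  obtain ⟨r, hr, hr0⟩ := Submodule.exists_sub_one_mem_and_smul_eq_zero_of_fg_of_le_smul I (⊤ : Submodule R P)
    Module.Finite.fg_top (le_of_eq h.symm)
  have : r = 0 := eq_of_smul_eq_smul fun x : P => by rw [hr0 x trivial, zero_smul]
  rw [this, zero_sub] at hr
  exact (Ideal.eq_top_iff_one I).2 (by simpa using I.neg_mem hr)

variable (S : Type w) [CommRing S] [Algebra R S]

/-- Base change of endomorphisms of a finite projective module. -/
theorem tensorProductEnd_bijective (P : Type v) [AddCommGroup P] [Module R P] [Module.Finite R P]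
    [Module.Projective R P] : Function.Bijective (LinearMap.tensorProductEnd R S (M := P)) := by
  let e : S ⊗[R] (P →ₗ[R] P) ≃ (S ⊗[R] P →ₗ[S] S ⊗[R] P) :=
    (lTensorHomEquivHomLTensor R P S P).toEquiv.trans (LinearMap.liftBaseChangeEquiv S).toEquiv
  have h : ∀ t, LinearMap.tensorProductEnd R S (M := P) t = e t := fun t => by
    show _ = LinearMap.liftBaseChange S (lTensorHomEquivHomLTensor R P S P t)
    induction t using TensorProduct.induction_on with
    | zero => simp only [map_zero, LinearMap.liftBaseChange]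
    | tmul a f =>
      refine TensorProduct.AlgebraTensorModule.ext fun s x => ?_
      rw [LinearMap.liftBaseChange_tmul, lTensorHomEquivHomLTensor_apply]
      show (a • LinearMap.baseChange S f) (s ⊗ₜ[R] x) = _
      simp [TensorProduct.smul_tmul', mul_comm a s]
    | add p q hp hq => simp only [map_add, hp, hq, LinearMap.liftBaseChange]
  rw [show (LinearMap.tensorProductEnd R S (M := P) : S ⊗[R] Module.End R P → _) = e from funext h]
  exact e.bijective

/-- The base change of `mulLeftRight`. -/
theorem exists_mulLeftRight_baseChange (A : Type v) [Ring A] [Algebra R A] :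
    ∃ Ψ : S ⊗[R] (A ⊗[R] Aᵐᵒᵖ) →ₗ[S] (S ⊗[R] A) ⊗[S] (S ⊗[R] A)ᵐᵒᵖ, Function.Bijective Ψ ∧
      ∀ t, AlgHom.mulLeftRight S (S ⊗[R] A) (Ψ t) =
        LinearMap.tensorProductEnd R S (M := A) (LinearMap.baseChange S (AlgHom.mulLeftRight R A).toLinearMap t) := by
  let ι : A →ₗ[R] S ⊗[R] A := TensorProduct.mk R S A 1
  let f : A ⊗[R] Aᵐᵒᵖ →ₗ[R] (S ⊗[R] A) ⊗[S] (S ⊗[R] A)ᵐᵒᵖ :=
    TensorProduct.lift
      (((TensorProduct.mk S (S ⊗[R] A) (S ⊗[R] A)ᵐᵒᵖ).restrictScalars₁₂ R R).compl₁₂ ι
        ((opLinearEquiv R).toLinearMap ∘ₗ ι ∘ₗ (opLinearEquiv R).symm.toLinearMap))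
  have hf : ∀ a b, f (a ⊗ₜ[R] b) = ((1 : S) ⊗ₜ[R] a) ⊗ₜ[S] op ((1 : S) ⊗ₜ[R] b.unop) := fun a b => rfl
  let Ψ := LinearMap.liftBaseChange S f
  have hΨ : Function.Surjective Ψ := by
    rw [← LinearMap.range_eq_top, eq_top_iff]
    intro t _
    induction t using TensorProduct.induction_on with
    | zero => exact Submodule.zero_mem _
    | add p q hp hq => exact Submodule.add_mem _ (hp trivial) (hq trivial)
    | tmul x y =>
      obtain ⟨y, rfl⟩ := op_surjective y
      induction x using TensorProduct.induction_on with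
      | zero => rw [TensorProduct.zero_tmul]; exact Submodule.zero_mem _
      | add p q hp hq => rw [TensorProduct.add_tmul]; exact Submodule.add_mem _ (hp trivial) (hq trivial)
      | tmul s a =>
        induction y using TensorProduct.induction_on with
        | zero => rw [op_zero, TensorProduct.tmul_zero]; exact Submodule.zero_mem _
        | add p q hp hq => rw [op_add, TensorProduct.tmul_add]; exact Submodule.add_mem _ (hp trivial) (hq trivial)
        | tmul s' b =>
          refine ⟨(s * s') ⊗ₜ[R] (a ⊗ₜ[R] op b), ?_⟩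
          show LinearMap.liftBaseChange S f _ = _
          rw [LinearMap.liftBaseChange_tmul, hf, unop_op, show s ⊗ₜ[R] a = s • ((1 : S) ⊗ₜ[R] a) by
              rw [TensorProduct.smul_tmul', smul_eq_mul, mul_one],
            show op (s' ⊗ₜ[R] b) = s' • op ((1 : S) ⊗ₜ[R] b) by
              rw [← op_smul, TensorProduct.smul_tmul', smul_eq_mul, mul_one],
            TensorProduct.smul_tmul', TensorProduct.smul_tmul', TensorProduct.tmul_smul, TensorProduct.smul_tmul',
            smul_smul, mul_comm s s']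
          simp [TensorProduct.smul_tmul']
  have hcomm : ∀ t, AlgHom.mulLeftRight S (S ⊗[R] A) (Ψ t) =
      LinearMap.tensorProductEnd R S (M := A) (LinearMap.baseChange S (AlgHom.mulLeftRight R A).toLinearMap t) := by
    intro t
    induction t using TensorProduct.induction_on with
    | zero => simp
    | add p q hp hq => simp only [map_add, hp, hq]
    | tmul s u =>
      induction u using TensorProduct.induction_on with
      | zero => simp
      | add p q hp hq => simp only [TensorProduct.tmul_add, map_add, hp, hq]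
      | tmul a b =>
        refine TensorProduct.AlgebraTensorModule.ext fun s' x => ?_
        show AlgHom.mulLeftRight S (S ⊗[R] A) (LinearMap.liftBaseChange S f _) _ = _
        rw [LinearMap.liftBaseChange_tmul, hf, map_smul, LinearMap.smul_apply, AlgHom.mulLeftRight_apply, unop_op,
          Algebra.TensorProduct.tmul_mul_tmul, Algebra.TensorProduct.tmul_mul_tmul, one_mul, mul_one,
          TensorProduct.smul_tmul']
        show _ = (s • LinearMap.baseChange S (AlgHom.mulLeftRight R A (a ⊗ₜ[R] b))) (s' ⊗ₜ[R] x)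
        simp [TensorProduct.smul_tmul']
  let o : (S ⊗[R] A)ᵐᵒᵖ →ₗ[S] S ⊗[R] Aᵐᵒᵖ :=
    LinearMap.baseChange S (opLinearEquiv R (M := A)).toLinearMap ∘ₗ (opLinearEquiv S (M := S ⊗[R] A)).symm.toLinearMap
  let Θ : (S ⊗[R] A) ⊗[S] (S ⊗[R] A)ᵐᵒᵖ →ₗ[S] S ⊗[R] (A ⊗[R] Aᵐᵒᵖ) :=
    (TensorProduct.AlgebraTensorModule.distribBaseChange R S A Aᵐᵒᵖ).symm.toLinearMap ∘ₗ
      TensorProduct.map LinearMap.id o
  have hleft : ∀ t, Θ (Ψ t) = t := fun t => by
    induction t using TensorProduct.induction_on with
    | zero => simp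
    | add p q hp hq => simp only [map_add, hp, hq]
    | tmul s u =>
      induction u using TensorProduct.induction_on with
      | zero => simp
      | add p q hp hq => simp only [TensorProduct.tmul_add, map_add, hp, hq]
      | tmul a b =>
        show Θ (LinearMap.liftBaseChange S f (s ⊗ₜ[R] (a ⊗ₜ[R] b))) = _
        rw [LinearMap.liftBaseChange_tmul, hf, map_smul]
        simp [Θ, o, TensorProduct.AlgebraTensorModule.distribBaseChange, TensorProduct.smul_tmul']
  exact ⟨Ψ, ⟨Function.LeftInverse.injective hleft, hΨ⟩, hcomm⟩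

theorem isAzumaya_baseChange (A : Type v) [Ring A] [Algebra R A] [IsAzumaya R A] : IsAzumaya S (S ⊗[R] A) := by
  haveI := faithfullyFlat_of_faithful (R := R) A
  haveI : FaithfulSMul S (S ⊗[R] A) := by
    refine ⟨fun {r₁ r₂} h => sub_eq_zero.1 ?_⟩
    let N := Submodule.span S {r₁ - r₂}
    have hd : ∀ x : S ⊗[R] A, (r₁ - r₂) • x = 0 := fun x => by rw [sub_smul, h x, sub_self]
    have hzero : ∀ t : (S ⊗[R] A) ⊗[S] N, LinearMap.lTensor (S ⊗[R] A) N.subtype t = 0 := fun t => by
      induction t using TensorProduct.induction_on with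
      | zero => simp
      | tmul x y =>
        obtain ⟨c, hc⟩ := Submodule.mem_span_singleton.1 y.2
        rw [LinearMap.lTensor_tmul, Submodule.subtype_apply, ← hc, smul_eq_mul, mul_comm, ← smul_eq_mul,
          ← TensorProduct.smul_tmul, hd, TensorProduct.zero_tmul]
      | add p q hp hq => rw [map_add, hp, hq, add_zero]
    haveI : Subsingleton ((S ⊗[R] A) ⊗[S] N) := subsingleton_of_forall_eq 0 fun t =>
      Module.Flat.lTensor_preserves_injective_linearMap N.subtype Subtype.val_injective
        ((hzero t).trans (map_zero _).symm)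
    haveI := Module.FaithfullyFlat.lTensor_reflects_triviality S (S ⊗[R] A) N
    exact congrArg Subtype.val (Subsingleton.elim (⟨r₁ - r₂, Submodule.mem_span_singleton_self _⟩ : N) 0)
  obtain ⟨Ψ, hΨ, hcomm⟩ := exists_mulLeftRight_baseChange (R := R) S A
  refine { bij := ?_ }
  have hbij : Function.Bijective fun t => AlgHom.mulLeftRight S (S ⊗[R] A) (Ψ t) := by
    simp only [hcomm]
    exact (tensorProductEnd_bijective S A).comp
      (LinearEquiv.lTensor S (LinearEquiv.ofBijective (AlgHom.mulLeftRight R A).toLinearMap IsAzumaya.bij)).bijective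
  exact ⟨fun x y hxy => by
      obtain ⟨t, rfl⟩ := hΨ.2 x
      obtain ⟨t', rfl⟩ := hΨ.2 y
      rw [hbij.1 hxy],
    fun g => (hbij.2 g).elim fun t ht => ⟨Ψ t, ht⟩⟩

theorem mulLeftRight_bijective_fun (n : ℕ) :
    Function.Bijective (AlgHom.mulLeftRight R (Module.End R (Fin n → R))) := by
  rcases Nat.eq_zero_or_pos n with rfl | hn
  · exact ⟨fun x y _ => Subsingleton.elim x y, fun g => ⟨0, Subsingleton.elim _ _⟩⟩
  · haveI : Nonempty (Fin n) := ⟨⟨0, hn⟩⟩
    haveI := IsAzumaya.matrix R (Fin n)
    haveI := IsAzumaya.of_AlgEquiv R (Matrix (Fin n) (Fin n) R) (Module.End R (Fin n → R)) Matrix.toLinAlgEquiv'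
    exact IsAzumaya.bij

theorem isAzumaya_end (P : Type v) [AddCommGroup P] [Module R P] [Module.Finite R P] [Module.Projective R P]
    [FaithfulSMul R P] : IsAzumaya R (Module.End R P) := by
  obtain ⟨n, p, i, -, -, hpi⟩ := Module.Finite.exists_comp_eq_id_of_projective R P
  have hpi' : ∀ x, p (i x) = x := fun x => LinearMap.congr_fun hpi x
  let E := Module.End R P
  let M := Module.End R (Fin n → R)
  let ι : E →ₗ[R] M :=
    { toFun := fun f => i ∘ₗ f ∘ₗ p
      map_add' := fun f g => by rw [LinearMap.add_comp, LinearMap.comp_add]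
      map_smul' := fun r f => by rw [LinearMap.smul_comp, LinearMap.comp_smul]; rfl }
  let π : M →ₗ[R] E :=
    { toFun := fun f => p ∘ₗ f ∘ₗ i
      map_add' := fun f g => by rw [LinearMap.add_comp, LinearMap.comp_add]
      map_smul' := fun r f => by rw [LinearMap.smul_comp, LinearMap.comp_smul]; rfl }
  have hπι : ∀ f, π (ι f) = f := fun f => LinearMap.ext fun x => by simp [ι, π, hpi']
  haveI : Module.Projective R E := Module.Projective.of_split ι π (LinearMap.ext hπι)
  haveI : Module.Finite R E := Module.Finite.of_surjective π fun f => ⟨ι f, hπι f⟩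
  haveI : FaithfulSMul R E := ⟨fun {r₁ r₂} h => eq_of_smul_eq_smul fun x : P => by
    show (r₁ • (1 : E)) x = (r₂ • (1 : E)) x
    exact LinearMap.congr_fun (h (1 : E)) x⟩
  refine { bij := ?_ }
  let Φ : E ⊗[R] Eᵐᵒᵖ →ₗ[R] M ⊗[R] Mᵐᵒᵖ :=
    TensorProduct.map ι ((opLinearEquiv R).toLinearMap ∘ₗ ι ∘ₗ (opLinearEquiv R).symm.toLinearMap)
  let Ξ : M ⊗[R] Mᵐᵒᵖ →ₗ[R] E ⊗[R] Eᵐᵒᵖ :=
    TensorProduct.map π ((opLinearEquiv R).toLinearMap ∘ₗ π ∘ₗ (opLinearEquiv R).symm.toLinearMap)
  have hΞΦ : ∀ t, Ξ (Φ t) = t := fun t => by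
    induction t using TensorProduct.induction_on with
    | zero => simp
    | tmul a b => simp [Φ, Ξ, hπι]
    | add x y hx hy => simp only [map_add, hx, hy]
  have h1 : ∀ t g, AlgHom.mulLeftRight R M (Φ t) g = ι (AlgHom.mulLeftRight R E t (π g)) := fun t g => by
    induction t using TensorProduct.induction_on with
    | zero => simp
    | tmul a b =>
      simp only [Φ, TensorProduct.map_tmul, AlgHom.mulLeftRight_apply]
      exact LinearMap.ext fun x => by simp [ι, π, E, M, Module.End.mul_apply]
    | add x y hx hy => simp only [map_add, LinearMap.add_apply, hx, hy]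
  have h2 : ∀ u x, AlgHom.mulLeftRight R E (Ξ u) x = π (AlgHom.mulLeftRight R M u (ι x)) := fun u x => by
    induction u using TensorProduct.induction_on with
    | zero => simp
    | tmul a b =>
      simp only [Ξ, TensorProduct.map_tmul, AlgHom.mulLeftRight_apply]
      exact LinearMap.ext fun x => by simp [ι, π, E, M, Module.End.mul_apply]
    | add x y hx hy => simp only [map_add, LinearMap.add_apply, hx, hy]
  refine ⟨(injective_iff_map_eq_zero _).2 fun t ht => ?_, fun F => ?_⟩
  · have h : Φ t = 0 := (mulLeftRight_bijective_fun (R := R) n).1 (LinearMap.ext fun g => by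
      rw [h1, ht, map_zero]; simp)
    rw [← hΞΦ t, h, map_zero]
  · obtain ⟨u, hu⟩ := (mulLeftRight_bijective_fun (R := R) n).2 (ι ∘ₗ F ∘ₗ π)
    exact ⟨Ξ u, LinearMap.ext fun x => by rw [h2, hu]; simp [hπι]⟩

end Groth.Agent.AzumayaAlg
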