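import Mathlib
import Groth.Agent.AzumayaAlg.Basic

/-!
# Descent of the Azumaya property
-/

open scoped TensorProduct
open MulOpposite

namespace Groth.Agent.AzumayaAlg

universe u v w

variable {R : Type u} [CommRing R] (S : Type w) [CommRing S] [Algebra R S]

theorem subsingleton_of_baseChange (hS : Function.Surjective (PrimeSpectrum.comap (algebraMap R S)))
    (C : Type v) [AddCommGroup C] [Module R C] [Module.Finite R C] [Subsingleton (S ⊗[R] C)] : Subsingleton C := by
  have key : ∀ m : Ideal R, m.IsMaximal → ¬ Module.annihilator R C ≤ m := fun m hm hann => by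
    have hne : m • (⊤ : Submodule R C) ≠ ⊤ := fun h => by
      obtain ⟨r, hr, hr0⟩ := Submodule.exists_sub_one_mem_and_smul_eq_zero_of_fg_of_le_smul m (⊤ : Submodule R C)
        Module.Finite.fg_top (le_of_eq h.symm)
      exact hm.ne_top ((Ideal.eq_top_iff_one m).2
        (by simpa using m.sub_mem (hann (Module.mem_annihilator.2 fun c => hr0 c trivial)) hr))
    obtain ⟨c, -, hc⟩ := SetLike.exists_of_lt (lt_top_iff_ne_top.2 hne)
    obtain ⟨q, hq⟩ := hS ⟨m, hm.isPrime⟩
    have hq' : q.asIdeal.comap (algebraMap R S) = m := congrArg PrimeSpectrum.asIdeal hq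
    letI := Ideal.Quotient.field m
    let c' : C ⧸ m • (⊤ : Submodule R C) := Submodule.Quotient.mk c
    have hc' : c' ≠ 0 := fun h => hc ((Submodule.Quotient.mk_eq_zero _).1 h)
    obtain ⟨φ, hφ⟩ := Module.Projective.exists_dual_ne_zero (R ⧸ m) hc'
    let j : R ⧸ m →ₗ[R] S ⧸ q.asIdeal :=
      (Ideal.quotientMapₐ q.asIdeal (Algebra.ofId R S) (le_of_eq hq'.symm)).toLinearMap
    haveI : Nontrivial (S ⧸ q.asIdeal) := Ideal.Quotient.nontrivial_iff.2 q.isPrime.ne_top
    have hj : Function.Injective j :=
      (Ideal.quotientMapₐ q.asIdeal (Algebra.ofId R S) (le_of_eq hq'.symm)).toRingHom.injective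
    let ψ : C →ₗ[R] S ⧸ q.asIdeal := j ∘ₗ φ.restrictScalars R ∘ₗ (m • (⊤ : Submodule R C)).mkQ
    have h0 : LinearMap.liftBaseChange S ψ ((1 : S) ⊗ₜ[R] c) = ψ c := by
      rw [LinearMap.liftBaseChange_tmul, one_smul]
    rw [Subsingleton.elim ((1 : S) ⊗ₜ[R] c) 0, map_zero] at h0
    exact hφ (hj (h0.symm.trans (map_zero j).symm))
  have hann : Module.annihilator R C = ⊤ := by
    by_contra h
    obtain ⟨m, hm, hle⟩ := Ideal.exists_le_maximal _ h
    exact key m hm hle
  exact subsingleton_of_forall_eq 0 fun c => by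
    rw [← one_smul R c, Module.mem_annihilator.1 ((Ideal.eq_top_iff_one _).1 hann) c]

theorem faithfulSMul_of_faithfullyFlat (M : Type v) [AddCommGroup M] [Module R M] [Module.FaithfullyFlat R M] :
    FaithfulSMul R M := by
  refine ⟨fun {r₁ r₂} h => sub_eq_zero.1 ?_⟩
  let N := Submodule.span R {r₁ - r₂}
  have hd : ∀ x : M, (r₁ - r₂) • x = 0 := fun x => by rw [sub_smul, h x, sub_self]
  have hzero : ∀ t : M ⊗[R] N, LinearMap.lTensor M N.subtype t = 0 := fun t => by
    induction t using TensorProduct.induction_on with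
    | zero => simp
    | tmul x y =>
      obtain ⟨c, hc⟩ := Submodule.mem_span_singleton.1 y.2
      rw [LinearMap.lTensor_tmul, Submodule.subtype_apply, ← hc, smul_eq_mul, mul_comm, ← smul_eq_mul,
        ← TensorProduct.smul_tmul, hd, TensorProduct.zero_tmul]
    | add p q hp hq => rw [map_add, hp, hq, add_zero]
  haveI : Subsingleton (M ⊗[R] N) := subsingleton_of_forall_eq 0 fun t =>
    Module.Flat.lTensor_preserves_injective_linearMap N.subtype Subtype.val_injective
      ((hzero t).trans (map_zero _).symm)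
  haveI := Module.FaithfullyFlat.lTensor_reflects_triviality R M N
  exact congrArg Subtype.val (Subsingleton.elim (⟨r₁ - r₂, Submodule.mem_span_singleton_self _⟩ : N) 0)

theorem isAzumaya_tensorProduct (A : Type v) [Ring A] [Algebra R A] [IsAzumaya R A]
    (B : Type w) [Ring B] [Algebra R B] [IsAzumaya R B] : IsAzumaya R (A ⊗[R] B) := by
  haveI := faithfullyFlat_of_faithful (R := R) A
  haveI := faithfullyFlat_of_faithful (R := R) B
  haveI : Module.FaithfullyFlat R (A ⊗[R] B) := by
    refine (Module.FaithfullyFlat.iff_flat_and_lTensor_reflects_triviality R (A ⊗[R] B)).2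
      ⟨inferInstance, fun N _ _ h => ?_⟩
    haveI : Subsingleton (A ⊗[R] (B ⊗[R] N)) := (TensorProduct.assoc R A B N).symm.toEquiv.injective.subsingleton
    haveI := Module.FaithfullyFlat.lTensor_reflects_triviality R A (B ⊗[R] N)
    exact Module.FaithfullyFlat.lTensor_reflects_triviality R B N
  haveI := faithfulSMul_of_faithfullyFlat (R := R) (A ⊗[R] B)
  refine { bij := ?_ }
  let G : (A ⊗[R] Aᵐᵒᵖ) ⊗[R] (B ⊗[R] Bᵐᵒᵖ) ≃ₗ[R] (A ⊗[R] B) ⊗[R] (A ⊗[R] B)ᵐᵒᵖ :=
    TensorProduct.tensorTensorTensorComm R A Aᵐᵒᵖ B Bᵐᵒᵖ ≪≫ₗ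
      TensorProduct.congr (LinearEquiv.refl R _)
        (TensorProduct.congr (opLinearEquiv R).symm (opLinearEquiv R).symm ≪≫ₗ opLinearEquiv R)
  let H : (A ⊗[R] Aᵐᵒᵖ) ⊗[R] (B ⊗[R] Bᵐᵒᵖ) ≃ₗ[R] ((A ⊗[R] B) →ₗ[R] (A ⊗[R] B)) :=
    TensorProduct.congr (LinearEquiv.ofBijective (AlgHom.mulLeftRight R A).toLinearMap IsAzumaya.bij)
      (LinearEquiv.ofBijective (AlgHom.mulLeftRight R B).toLinearMap IsAzumaya.bij) ≪≫ₗ homTensorHomEquiv R A B A B
  have h : ∀ t, AlgHom.mulLeftRight R (A ⊗[R] B) (G t) = H t := fun t => by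
    induction t using TensorProduct.induction_on with
    | zero => simp
    | add p q hp hq => simp only [map_add, hp, hq]
    | tmul x y =>
      induction x using TensorProduct.induction_on with
      | zero => simp
      | add p q hp hq => simp only [TensorProduct.add_tmul, map_add, hp, hq]
      | tmul a a' =>
        induction y using TensorProduct.induction_on with
        | zero => simp
        | add p q hp hq => simp only [TensorProduct.tmul_add, map_add, hp, hq]
        | tmul b b' =>
          refine TensorProduct.ext' fun x y => ?_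
          simp [G, H]
  have e : (AlgHom.mulLeftRight R (A ⊗[R] B) : _ → _) = H ∘ G.symm := funext fun z => by
    rw [Function.comp_apply, ← h, LinearEquiv.apply_symm_apply]
  rw [e]
  exact H.bijective.comp G.symm.bijective

theorem isAzumaya_of_baseChange_of_surjective
    (hS : Function.Surjective (PrimeSpectrum.comap (algebraMap R S)))
    (B : Type v) [Ring B] [Algebra R B] [Module.Finite R B] [Module.Projective R B]
    [IsAzumaya S (S ⊗[R] B)] : IsAzumaya R B := by
  haveI hff : Module.FaithfullyFlat R B := by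
    refine (Module.FaithfullyFlat.iff_flat_and_proper_ideal R B).2 ⟨inferInstance, fun I hI h => ?_⟩
    obtain ⟨r, hr, hr0⟩ := Submodule.exists_sub_one_mem_and_smul_eq_zero_of_fg_of_le_smul I (⊤ : Submodule R B)
      Module.Finite.fg_top (le_of_eq h.symm)
    have hr0' : algebraMap R S r = 0 := by
      refine eq_of_smul_eq_smul fun x : S ⊗[R] B => ?_
      rw [zero_smul, IsScalarTower.algebraMap_smul]
      induction x using TensorProduct.induction_on with
      | zero => rw [smul_zero]
      | tmul s b => rw [← TensorProduct.tmul_smul, hr0 b trivial, TensorProduct.tmul_zero]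
      | add p q hp hq => rw [smul_add, hp, hq, add_zero]
    obtain ⟨m, hm, hle⟩ := Ideal.exists_le_maximal I hI
    obtain ⟨q, hq⟩ := hS ⟨m, hm.isPrime⟩
    have : r ∈ m := by
      rw [← show q.asIdeal.comap (algebraMap R S) = m from congrArg PrimeSpectrum.asIdeal hq, Ideal.mem_comap, hr0']
      exact q.asIdeal.zero_mem
    exact hm.ne_top ((Ideal.eq_top_iff_one m).2 (by simpa using m.sub_mem this (hle hr)))
  haveI := faithfulSMul_of_faithfullyFlat (R := R) B
  obtain ⟨Ψ, hΨ, hcomm⟩ := exists_mulLeftRight_baseChange (R := R) S B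
  haveI : Module.Finite R Bᵐᵒᵖ := Module.Finite.equiv (opLinearEquiv R)
  haveI : Module.Projective R Bᵐᵒᵖ := Module.Projective.of_equiv (opLinearEquiv R)
  obtain ⟨n, p, i, -, -, hpi⟩ := Module.Finite.exists_comp_eq_id_of_projective R B
  let ι : Module.End R B →ₗ[R] Module.End R (Fin n → R) :=
    { toFun := fun f => i ∘ₗ f ∘ₗ p
      map_add' := fun f g => by rw [LinearMap.add_comp, LinearMap.comp_add]
      map_smul' := fun r f => by rw [LinearMap.smul_comp, LinearMap.comp_smul]; rfl }
  let π : Module.End R (Fin n → R) →ₗ[R] Module.End R B :=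
    { toFun := fun f => p ∘ₗ f ∘ₗ i
      map_add' := fun f g => by rw [LinearMap.add_comp, LinearMap.comp_add]
      map_smul' := fun r f => by rw [LinearMap.smul_comp, LinearMap.comp_smul]; rfl }
  have hπι : ∀ f, π (ι f) = f := fun f => LinearMap.ext fun x => by
    show p (i (f (p (i x)))) = f x
    rw [show ∀ y, p (i y) = y from fun y => LinearMap.congr_fun hpi y, show ∀ y, p (i y) = y from fun y => LinearMap.congr_fun hpi y]
  haveI : Module.Projective R (Module.End R B) := Module.Projective.of_split ι π (LinearMap.ext hπι)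
  haveI : Module.Finite R (Module.End R B) := Module.Finite.of_surjective π fun f => ⟨ι f, hπι f⟩
  let f : B ⊗[R] Bᵐᵒᵖ →ₗ[R] Module.End R B := (AlgHom.mulLeftRight R B).toLinearMap
  have hfS : Function.Bijective (LinearMap.baseChange S f) :=
    (Function.Bijective.of_comp_iff' (tensorProductEnd_bijective S B) _).1 (by
      rw [show (LinearMap.tensorProductEnd R S (M := B) : _ → _) ∘ LinearMap.baseChange S f =
        fun t => AlgHom.mulLeftRight S (S ⊗[R] B) (Ψ t) from funext fun t => (hcomm t).symm]
      exact IsAzumaya.bij.comp hΨ)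
  have hsurj : Function.Surjective f := by
    haveI : Subsingleton (S ⊗[R] (Module.End R B ⧸ LinearMap.range f)) := subsingleton_of_forall_eq 0 fun t => by
      obtain ⟨t', rfl⟩ := LinearMap.lTensor_surjective S (Submodule.mkQ_surjective (LinearMap.range f)) t
      obtain ⟨u, rfl⟩ := hfS.2 t'
      rw [LinearMap.baseChange_eq_ltensor, ← LinearMap.comp_apply, ← LinearMap.lTensor_comp,
        LinearMap.range_mkQ_comp, LinearMap.lTensor_zero, LinearMap.zero_apply]
    haveI := subsingleton_of_baseChange S hS (Module.End R B ⧸ LinearMap.range f)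
    exact LinearMap.range_eq_top.1 (Submodule.Quotient.subsingleton_iff.1 this)
  obtain ⟨g, hg⟩ := Module.projective_lifting_property f LinearMap.id hsurj
  refine { bij := ⟨?_, hsurj⟩ }
  let P : B ⊗[R] Bᵐᵒᵖ →ₗ[R] B ⊗[R] Bᵐᵒᵖ := LinearMap.id - g ∘ₗ f
  haveI : Subsingleton (S ⊗[R] (LinearMap.range P)) := subsingleton_of_forall_eq 0 fun t => by
    obtain ⟨t', rfl⟩ := LinearMap.lTensor_surjective S P.surjective_rangeRestrict t
    obtain ⟨Q, hQ⟩ : ∃ Q : B ⊗[R] Bᵐᵒᵖ →ₗ[R] LinearMap.range P, ∀ x, Q x = P.rangeRestrict x := ⟨_, fun _ => rfl⟩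
    have hPP : P.rangeRestrict ∘ₗ g = 0 := LinearMap.ext fun x => Subtype.ext (by
      show g x - g (f (g x)) = 0
      rw [show f (g x) = x from LinearMap.congr_fun hg x, sub_self])
    have h1 : t' = LinearMap.lTensor S g (LinearMap.lTensor S f t') := by
      refine hfS.1 ?_
      rw [LinearMap.baseChange_eq_ltensor, ← LinearMap.comp_apply (LinearMap.lTensor S f) (LinearMap.lTensor S g),
        ← LinearMap.lTensor_comp, hg, LinearMap.lTensor_id, LinearMap.id_apply]
    rw [h1, ← LinearMap.comp_apply, ← LinearMap.lTensor_comp, hPP, LinearMap.lTensor_zero, LinearMap.zero_apply]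
  haveI : Module.Finite R (LinearMap.range P) := Module.Finite.range P
  haveI := subsingleton_of_baseChange S hS (LinearMap.range P)
  refine (injective_iff_map_eq_zero f).2 fun x hx => ?_
  have := congrArg Subtype.val (Subsingleton.elim (P.rangeRestrict x) 0)
  simpa [P, hx] using this

theorem isAzumaya_of_baseChange_faithfullyFlat [Module.FaithfullyFlat R S]
    (B : Type v) [Ring B] [Algebra R B] [IsAzumaya S (S ⊗[R] B)] : IsAzumaya R B := by
  haveI : Module.Finite R B := Module.Finite.of_finite_tensorProduct_of_faithfullyFlat S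
  haveI : Module.Flat R B := Module.Flat.of_flat_tensorProduct R B S
  haveI : Module.FinitePresentation R B := by
    obtain ⟨n, l, hl⟩ := Module.Finite.exists_fin' R B
    haveI : Module.FinitePresentation S (S ⊗[R] B) := Module.finitePresentation_of_projective S _
    have hfg : (LinearMap.ker (LinearMap.baseChange S l)).FG :=
      Module.FinitePresentation.fg_ker _ (LinearMap.lTensor_surjective S hl)
    let j : S ⊗[R] LinearMap.ker l →ₗ[S] S ⊗[R] (Fin n → R) := LinearMap.baseChange S (LinearMap.ker l).subtype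
    have hj : Function.Injective j := Module.Flat.lTensor_preserves_injective_linearMap _ Subtype.val_injective
    have hjr : LinearMap.range j = LinearMap.ker (LinearMap.baseChange S l) := by
      ext x
      exact ((lTensor_exact S (LinearMap.exact_subtype_ker_map l) hl) x).symm
    haveI : Module.Finite S (LinearMap.range j) := Module.Finite.iff_fg.2 (hjr ▸ hfg)
    haveI : Module.Finite S (S ⊗[R] LinearMap.ker l) := Module.Finite.equiv (LinearEquiv.ofInjective j hj).symm
    haveI : Module.Finite R (LinearMap.ker l) := Module.Finite.of_finite_tensorProduct_of_faithfullyFlat S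
    exact Module.finitePresentation_of_surjective l hl (Module.Finite.iff_fg.1 inferInstance)
  haveI : Module.Projective R B := Module.Flat.projective_of_finitePresentation
  exact isAzumaya_of_baseChange_of_surjective (R := R) S PrimeSpectrum.comap_surjective_of_faithfullyFlat B

end Groth.Agent.AzumayaAlg
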