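import Groth.Agent.AzumayaAlg.Descent
import Groth.Agent.CSADescent.Tensor

/-!
# Azumaya algebras through their fibres at maximal ideals
-/

open scoped TensorProduct
open MulOpposite

set_option linter.style.haveILetI false

namespace Groth.Agent.AzumayaAlg

universe u v

variable {R : Type u} [CommRing R]

theorem subsingleton_of_fibres (C : Type v) [AddCommGroup C] [Module R C] [Module.Finite R C]
    (h : ∀ m : Ideal R, [m.IsMaximal] → Subsingleton (m.ResidueField ⊗[R] C)) : Subsingleton C := by
  rw [← Module.support_eq_empty_iff (R := R)]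
  by_contra hne
  obtain ⟨p, hp⟩ := Set.nonempty_iff_ne_empty.mpr hne
  obtain ⟨m, hm, hle⟩ := Ideal.exists_le_maximal p.asIdeal p.isPrime.ne_top
  have hmC : (⟨m, hm.isPrime⟩ : PrimeSpectrum R) ∈ Module.support R C :=
    Module.mem_support_mono (show p ≤ ⟨m, hm.isPrime⟩ from hle) hp
  haveI := h m
  let e : (R ⧸ m) →ₗ[R] m.ResidueField := (IsScalarTower.toAlgHom R (R ⧸ m) m.ResidueField).toLinearMap
  have he : Function.Bijective e := Ideal.bijective_algebraMap_quotient_residueField m
  haveI : Subsingleton ((R ⧸ m) ⊗[R] C) :=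
    ((LinearEquiv.ofBijective e he).rTensor C).toEquiv.subsingleton
  haveI := (TensorProduct.quotTensorEquivQuotSMul C m).symm.toEquiv.subsingleton
  obtain ⟨r, hr, hr0⟩ := Submodule.exists_sub_one_mem_and_smul_eq_zero_of_fg_of_le_smul m (⊤ : Submodule R C)
    Module.Finite.fg_top (Submodule.Quotient.subsingleton_iff.mp ‹_›).ge
  rw [Module.mem_support_iff_of_finite] at hmC
  exact hm.ne_top ((Ideal.eq_top_iff_one m).2
    (by simpa using m.sub_mem (hmC (Module.mem_annihilator.2 fun c => hr0 c trivial)) hr))

theorem bijective_of_fibres {M N : Type v} [AddCommGroup M] [Module R M] [Module.Finite R M]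
    [AddCommGroup N] [Module R N] [Module.Finite R N] [Module.Projective R N] (f : M →ₗ[R] N)
    (h : ∀ m : Ideal R, [m.IsMaximal] → Function.Bijective (f.baseChange m.ResidueField)) :
    Function.Bijective f := by
  have hsurj : Function.Surjective f := by
    haveI : Subsingleton (N ⧸ LinearMap.range f) := subsingleton_of_fibres _ fun m _ =>
      subsingleton_of_forall_eq 0 fun t => by
        obtain ⟨t', rfl⟩ := LinearMap.lTensor_surjective m.ResidueField (Submodule.mkQ_surjective (LinearMap.range f)) t
        obtain ⟨u, rfl⟩ := (h m).2 t'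
        rw [LinearMap.baseChange_eq_ltensor, ← LinearMap.comp_apply, ← LinearMap.lTensor_comp,
          LinearMap.range_mkQ_comp, LinearMap.lTensor_zero, LinearMap.zero_apply]
    exact LinearMap.range_eq_top.1 (Submodule.Quotient.subsingleton_iff.1 this)
  obtain ⟨g, hg⟩ := Module.projective_lifting_property f LinearMap.id hsurj
  let P : M →ₗ[R] M := LinearMap.id - g ∘ₗ f
  have hPP : P.rangeRestrict ∘ₗ g = 0 := LinearMap.ext fun x => Subtype.ext (by
    show g x - g (f (g x)) = 0
    rw [show f (g x) = x from LinearMap.congr_fun hg x, sub_self])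
  haveI : Subsingleton (LinearMap.range P) := subsingleton_of_fibres _ fun m _ =>
    subsingleton_of_forall_eq 0 fun t => by
      obtain ⟨t', rfl⟩ := LinearMap.lTensor_surjective m.ResidueField P.surjective_rangeRestrict t
      have h1 : t' = LinearMap.lTensor m.ResidueField g (LinearMap.lTensor m.ResidueField f t') := by
        refine (h m).1 ?_
        rw [LinearMap.baseChange_eq_ltensor, ← LinearMap.comp_apply (LinearMap.lTensor _ f) (LinearMap.lTensor _ g),
          ← LinearMap.lTensor_comp, hg, LinearMap.lTensor_id, LinearMap.id_apply]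
      rw [h1, ← LinearMap.comp_apply, ← LinearMap.lTensor_comp, hPP, LinearMap.lTensor_zero, LinearMap.zero_apply]
  refine ⟨(injective_iff_map_eq_zero f).2 fun x hx => ?_, hsurj⟩
  have := congrArg Subtype.val (Subsingleton.elim (P.rangeRestrict x) 0)
  simpa [P, hx] using this

theorem isAzumaya_of_fibres (B : Type v) [Ring B] [Algebra R B] [Module.Finite R B] [Module.Projective R B]
    (h : ∀ m : Ideal R, [m.IsMaximal] →
      Algebra.IsCentral m.ResidueField (m.ResidueField ⊗[R] B) ∧ IsSimpleRing (m.ResidueField ⊗[R] B)) :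
    IsAzumaya R B := by
  haveI : Module.FaithfullyFlat R B := by
    refine ⟨fun m hm htop => ?_⟩
    haveI := (h m).2
    let e : (R ⧸ m) →ₗ[R] m.ResidueField := (IsScalarTower.toAlgHom R (R ⧸ m) m.ResidueField).toLinearMap
    have he : Function.Bijective e := Ideal.bijective_algebraMap_quotient_residueField m
    haveI : Subsingleton (B ⧸ (m • ⊤ : Submodule R B)) := Submodule.Quotient.subsingleton_iff.mpr htop
    haveI := (TensorProduct.quotTensorEquivQuotSMul B m).toEquiv.subsingleton
    haveI : Subsingleton (m.ResidueField ⊗[R] B) :=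
      ((LinearEquiv.ofBijective e he).rTensor B).symm.toEquiv.subsingleton
    exact false_of_nontrivial_of_subsingleton (m.ResidueField ⊗[R] B)
  haveI := faithfulSMul_of_faithfullyFlat (R := R) B
  haveI : Module.Finite R Bᵐᵒᵖ := Module.Finite.equiv (opLinearEquiv R)
  obtain ⟨n, p, i, -, -, hpi⟩ := Module.Finite.exists_comp_eq_id_of_projective R B
  let ι : Module.End R B →ₗ[R] Module.End R (Fin n → R) :=
    { toFun := fun f => i ∘ₗ f ∘ₗ p
      map_add' := fun f g => by rw [LinearMap.add_comp, LinearMap.comp_add]
      map_smul' := fun r f => by rw [LinearMap.smul_comp, LinearMap.comp_smul]; rfl }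
  let π : Module.End R (Fin n → R) →ₗ[R] Module.End R B :=
    { toFun := fun f => p ∘ₗ f ∘ₗ i
      map_add' := fun f g => by rw [LinearMap.add_comp, LinearMap.comp_add]
      map_smul' := fun r f => by rw [LinearMap.smul_comp, LinearMap.comp_smul]; rfl }
  have hπι : ∀ f, π (ι f) = f := fun f => LinearMap.ext fun x => by
    show p (i (f (p (i x)))) = f x
    rw [show ∀ y, p (i y) = y from fun y => LinearMap.congr_fun hpi y, show ∀ y, p (i y) = y from fun y => LinearMap.congr_fun hpi y]
  haveI : Module.Projective R (Module.End R B) := Module.Projective.of_split ι π (LinearMap.ext hπι)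
  haveI : Module.Finite R (Module.End R B) := Module.Finite.of_surjective π fun f => ⟨ι f, hπι f⟩
  refine { bij := bijective_of_fibres (AlgHom.mulLeftRight R B).toLinearMap fun m _ => ?_ }
  haveI := (h m).1
  haveI := (h m).2
  obtain ⟨Ψ, hΨ, hcomm⟩ := exists_mulLeftRight_baseChange (R := R) m.ResidueField B
  refine (Function.Bijective.of_comp_iff' (tensorProductEnd_bijective m.ResidueField B) _).1 ?_
  rw [show (LinearMap.tensorProductEnd R m.ResidueField (M := B) : _ → _) ∘
      LinearMap.baseChange m.ResidueField (AlgHom.mulLeftRight R B).toLinearMap =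
    fun t => AlgHom.mulLeftRight m.ResidueField (m.ResidueField ⊗[R] B) (Ψ t) from funext fun t => (hcomm t).symm]
  exact CSADescent.mulLeftRight_bijective.comp hΨ

theorem isCentral_isSimple_of_isAzumaya {k : Type u} [Field k] (A : Type v) [Ring A] [Algebra k A] [IsAzumaya k A] :
    Algebra.IsCentral k A ∧ IsSimpleRing A := by
  haveI : Nontrivial A := by
    by_contra h
    rw [not_nontrivial_iff_subsingleton] at h
    exact one_ne_zero (α := k) (eq_of_smul_eq_smul (α := A) fun a => Subsingleton.elim _ _)
  refine ⟨inferInstance, (IsSimpleRing.iff_injective_ringHom_or_subsingleton_codomain A).2 fun {B} _ φ => ?_⟩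
  by_cases hj : ∃ j : A, j ≠ 0 ∧ φ j = 0
  · right
    refine subsingleton_of_zero_eq_one ?_
    obtain ⟨j, hj0, hφj⟩ := hj
    obtain ⟨ψ, hψ⟩ := Module.Projective.exists_dual_ne_zero k hj0
    obtain ⟨ξ, hξ⟩ := IsAzumaya.bij (R := k) (A := A) |>.2 (LinearMap.toSpanSingleton k A 1 ∘ₗ ((ψ j)⁻¹ • ψ))
    have h1 : φ (AlgHom.mulLeftRight k A ξ j) = 0 := by
      clear hξ
      induction ξ using TensorProduct.induction_on with
      | zero => simp
      | add p q hp hq => simp [hp, hq]
      | tmul a b => simp [hφj]
    rw [hξ] at h1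
    simp [hψ] at h1
    exact h1.symm
  · left
    push Not at hj
    exact (injective_iff_map_eq_zero φ).2 fun a ha => by_contra fun h => hj a h ha

end Groth.Agent.AzumayaAlg
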