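import Groth.Agent.AzumayaAlg.Basic
import Groth.Agent.AzumayaAlg.Descent
import Mathlib.Algebra.Azumaya.Basic

/-!
# Corners of Azumaya algebras
-/

set_option autoImplicit false
set_option backward.isDefEq.respectTransparency false

universe u v

open scoped TensorProduct
open MulOpposite

namespace Groth.Agent.AzumayaAlg

variable {R : Type u} [CommRing R]

/-- A finite projective module of everywhere positive rank is faithful. -/
theorem faithfulSMul_of_rankAtStalk_pos (M : Type v) [AddCommGroup M] [Module R M] [Module.Finite R M]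
    [Module.Projective R M] (h : ∀ p : PrimeSpectrum R, 0 < Module.rankAtStalk M p) : FaithfulSMul R M := by
  haveI : Module.FaithfullyFlat R M := by
    refine ⟨fun m hm htop => ?_⟩
    obtain ⟨r, hr, hr0⟩ := Submodule.exists_sub_one_mem_and_smul_eq_zero_of_fg_of_le_smul m (⊤ : Submodule R M)
      Module.Finite.fg_top (le_of_eq htop.symm)
    have hs := (Module.rankAtStalk_pos_iff_mem_support (M := M) ⟨m, hm.isPrime⟩).1 (h _)
    rw [Module.mem_support_iff_of_finite] at hs
    exact hm.ne_top ((Ideal.eq_top_iff_one m).2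
      (by simpa using m.sub_mem (hs (Module.mem_annihilator.2 fun c => hr0 c trivial)) hr))
  exact faithfulSMul_of_faithfullyFlat (R := R) M

variable {A : Type v} [Ring A] [Algebra R A]

/-- The algebra structure of a corner. -/
@[instance_reducible]
def cornerAlgebra {e : A} (he : IsIdempotentElem e) : Algebra R he.Corner :=
  RingHom.toAlgebra'
    { toFun := fun r => ⟨r • e, r • e, by simp only [mul_smul_comm, smul_mul_assoc, he.eq]⟩
      map_one' := Subtype.ext (one_smul R e)
      map_mul' := fun r s => Subtype.ext (show (r * s) • e = r • e * s • e by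
        rw [smul_mul_assoc, mul_smul_comm, he.eq, mul_smul])
      map_zero' := Subtype.ext (zero_smul R e)
      map_add' := fun r s => Subtype.ext (add_smul r s e) }
    fun r x => Subtype.ext (show r • e * x.1 = x.1 * r • e by
      have hx := (Subsemigroup.mem_corner_iff he).1 x.2
      rw [smul_mul_assoc, mul_smul_comm, hx.1, hx.2])

section
variable {e : A} (he : IsIdempotentElem e) [Algebra R he.Corner]

/-- Abstract corner data: the inclusion of a corner and the two projections. -/
theorem exists_corner_maps (hsmul : ∀ (r : R) (x : he.Corner), (r • x).1 = r • x.1) :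
    ∃ (ι : he.Corner →ₗ[R] A) (π : A →ₗ[R] he.Corner), π ∘ₗ ι = LinearMap.id ∧
      (∀ a, ι (π a) = e * a * e) ∧ ι 1 = e ∧ (∀ x y, ι (x * y) = ι x * ι y) ∧
      (∀ x, e * ι x = ι x) ∧ ∀ x, ι x * e = ι x := by
  refine ⟨{ toFun := fun x => x.1, map_add' := fun _ _ => rfl, map_smul' := hsmul },
    { toFun := fun a => ⟨e * a * e, a, rfl⟩
      map_add' := fun a b => Subtype.ext (show e * (a + b) * e = e * a * e + e * b * e by rw [mul_add, add_mul])
      map_smul' := fun r a => Subtype.ext (by
        rw [RingHom.id_apply, hsmul]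
        show e * (r • a) * e = r • (e * a * e)
        rw [mul_smul_comm, smul_mul_assoc]) }, ?_, fun a => rfl, rfl, fun x y => rfl,
    fun x => ((Subsemigroup.mem_corner_iff he).1 x.2).1, fun x => ((Subsemigroup.mem_corner_iff he).1 x.2).2⟩
  refine LinearMap.ext fun x => Subtype.ext ?_
  show e * x.1 * e = x.1
  rw [((Subsemigroup.mem_corner_iff he).1 x.2).1, ((Subsemigroup.mem_corner_iff he).1 x.2).2]

end

variable [IsAzumaya R A]

/-- A faithful retract of an Azumaya algebra of the shape `e A e` is Azumaya. -/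
theorem isAzumaya_corner {B : Type v} [Ring B] [Algebra R B] [FaithfulSMul R B] (ι : B →ₗ[R] A) (π : A →ₗ[R] B)
    (hπι : π ∘ₗ ι = LinearMap.id) {e : A} (hιπ : ∀ a, ι (π a) = e * a * e)
    (hmul : ∀ x y, ι (x * y) = ι x * ι y) (hl : ∀ x, e * ι x = ι x) (hr : ∀ x, ι x * e = ι x) :
    IsAzumaya R B := by
  have hπι' : ∀ x, π (ι x) = x := fun x => LinearMap.congr_fun hπι x
  have hinj : Function.Injective ι := Function.LeftInverse.injective hπι'
  haveI : Module.Projective R B := Module.Projective.of_split ι π hπι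
  haveI : Module.Finite R B := Module.Finite.of_surjective π fun x => ⟨ι x, hπι' x⟩
  refine { bij := ?_ }
  let Φ : B ⊗[R] Bᵐᵒᵖ →ₗ[R] A ⊗[R] Aᵐᵒᵖ :=
    TensorProduct.map ι ((opLinearEquiv R).toLinearMap ∘ₗ ι ∘ₗ (opLinearEquiv R).symm.toLinearMap)
  let Ξ : A ⊗[R] Aᵐᵒᵖ →ₗ[R] B ⊗[R] Bᵐᵒᵖ :=
    TensorProduct.map π ((opLinearEquiv R).toLinearMap ∘ₗ π ∘ₗ (opLinearEquiv R).symm.toLinearMap)
  have hΞΦ : ∀ t, Ξ (Φ t) = t := fun t => by
    induction t using TensorProduct.induction_on with
    | zero => simp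
    | tmul a b => simp [Φ, Ξ, hπι']
    | add x y hx hy => simp only [map_add, hx, hy]
  have h1 : ∀ t g, AlgHom.mulLeftRight R A (Φ t) g = ι (AlgHom.mulLeftRight R B t (π g)) := fun t g => by
    induction t using TensorProduct.induction_on with
    | zero => simp
    | tmul a b =>
      simp only [Φ, TensorProduct.map_tmul, AlgHom.mulLeftRight_apply, hmul, hιπ]
      show ι a * g * ι b.unop = _
      conv_lhs => rw [← hr a, ← hl b.unop]
      simp only [mul_assoc]
    | add x y hx hy => simp only [map_add, LinearMap.add_apply, hx, hy]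
  have h2 : ∀ u x, AlgHom.mulLeftRight R B (Ξ u) x = π (AlgHom.mulLeftRight R A u (ι x)) := fun u x => by
    induction u using TensorProduct.induction_on with
    | zero => simp
    | tmul a b =>
      refine hinj ?_
      simp only [Ξ, TensorProduct.map_tmul, AlgHom.mulLeftRight_apply, hmul, hιπ]
      show e * a * e * ι x * ι (π b.unop) = _
      rw [hιπ]
      conv_rhs => rw [← hr x, ← hl x]
      simp only [mul_assoc]
    | add x y hx hy => simp only [map_add, LinearMap.add_apply, hx, hy]
  refine ⟨(injective_iff_map_eq_zero _).2 fun t ht => ?_, fun F => ?_⟩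
  · have h : Φ t = 0 := (IsAzumaya.bij (R := R) (A := A)).1 (LinearMap.ext fun g => by
      rw [h1, ht, map_zero]; simp)
    rw [← hΞΦ t, h, map_zero]
  · obtain ⟨u, hu⟩ := (IsAzumaya.bij (R := R) (A := A)).2 (ι ∘ₗ F ∘ₗ π)
    exact ⟨Ξ u, LinearMap.ext fun x => by rw [h2, hu]; simp [hπι']⟩

/-- `A ⊗ (e A e)ᵒᵖ ≅ End (A e)`. -/
theorem exists_algEquiv_end {B : Type v} [Ring B] [Algebra R B] (ι : B →ₗ[R] A) (π : A →ₗ[R] B)
    (hπι : π ∘ₗ ι = LinearMap.id) {e : A} (he : IsIdempotentElem e) (hιπ : ∀ a, ι (π a) = e * a * e)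
    (h1e : ι 1 = e) (hmul : ∀ x y, ι (x * y) = ι x * ι y) (hl : ∀ x, e * ι x = ι x) (hr : ∀ x, ι x * e = ι x) :
    Nonempty (A ⊗[R] Bᵐᵒᵖ ≃ₐ[R] Module.End R (LinearMap.range (LinearMap.mulRight R e))) := by
  set M := LinearMap.range (LinearMap.mulRight R e)
  have hπι' : ∀ x, π (ι x) = x := fun x => LinearMap.congr_fun hπι x
  have hM : ∀ x : M, (x : A) * e = x := fun x => by
    obtain ⟨y, hy⟩ := x.2
    rw [← hy, LinearMap.mulRight_apply, mul_assoc, he.eq]
  let L : A →ₐ[R] Module.End R M :=
    AlgHom.ofLinearMap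
      { toFun := fun a => ((LinearMap.mulLeft R a) ∘ₗ M.subtype).codRestrict M fun x =>
          ⟨a * x, by simp [mul_assoc, hM]⟩
        map_add' := fun a b => LinearMap.ext fun x => Subtype.ext (add_mul a b (x : A))
        map_smul' := fun r a => LinearMap.ext fun x => Subtype.ext (smul_mul_assoc r a (x : A)) }
      (LinearMap.ext fun x => Subtype.ext (one_mul (x : A)))
      fun a b => LinearMap.ext fun x => Subtype.ext (mul_assoc a b (x : A))
  let Rm : Bᵐᵒᵖ →ₐ[R] Module.End R M :=
    AlgHom.ofLinearMap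
      { toFun := fun b => ((LinearMap.mulRight R (ι b.unop)) ∘ₗ M.subtype).codRestrict M fun x =>
          ⟨(x : A) * ι b.unop, by simp [mul_assoc, hr]⟩
        map_add' := fun a b => LinearMap.ext fun x => Subtype.ext (by simp [mul_add])
        map_smul' := fun r a => LinearMap.ext fun x => Subtype.ext (by simp) }
      (LinearMap.ext fun x => Subtype.ext (by simp [h1e, hM]))
      fun a b => LinearMap.ext fun x => Subtype.ext (by simp [hmul, mul_assoc])
  let ρ : A ⊗[R] Bᵐᵒᵖ →ₐ[R] Module.End R M :=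
    Algebra.TensorProduct.lift L Rm fun a b => LinearMap.ext fun x => Subtype.ext (mul_assoc a (x : A) _).symm
  have hρ : ∀ a b (x : M), (ρ (a ⊗ₜ[R] b) x : A) = a * ((x : A) * ι b.unop) := fun a b x => rfl
  let Φ : A ⊗[R] Bᵐᵒᵖ →ₗ[R] A ⊗[R] Aᵐᵒᵖ :=
    LinearMap.lTensor A ((opLinearEquiv R).toLinearMap ∘ₗ ι ∘ₗ (opLinearEquiv R).symm.toLinearMap)
  let Ξ : A ⊗[R] Aᵐᵒᵖ →ₗ[R] A ⊗[R] Bᵐᵒᵖ :=
    LinearMap.lTensor A ((opLinearEquiv R).toLinearMap ∘ₗ π ∘ₗ (opLinearEquiv R).symm.toLinearMap)
  let p : A →ₗ[R] M := (LinearMap.mulRight R e).rangeRestrict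
  have hp : ∀ a, (p a : A) = a * e := fun a => rfl
  have hΞΦ : ∀ t, Ξ (Φ t) = t := fun t => by
    induction t using TensorProduct.induction_on with
    | zero => simp
    | tmul a b => simp [Φ, Ξ, hπι']
    | add x y hx hy => simp only [map_add, hx, hy]
  have h1 : ∀ t g, AlgHom.mulLeftRight R A (Φ t) g = (ρ t (p g) : A) := fun t g => by
    induction t using TensorProduct.induction_on with
    | zero => simp
    | tmul a b =>
      rw [hρ, hp]
      simp only [Φ, LinearMap.lTensor_tmul, AlgHom.mulLeftRight_apply]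
      show a * g * ι b.unop = _
      conv_lhs => rw [← hl b.unop]
      simp only [mul_assoc]
    | add x y hx hy => simp only [map_add, LinearMap.add_apply, hx, hy, Submodule.coe_add]
  have h2 : ∀ u (x : M), (ρ (Ξ u) x : A) = (p (AlgHom.mulLeftRight R A u (x : A)) : A) := fun u x => by
    induction u using TensorProduct.induction_on with
    | zero => simp
    | tmul a b =>
      simp only [Ξ, LinearMap.lTensor_tmul]
      rw [hρ, hp, AlgHom.mulLeftRight_apply]
      show a * ((x : A) * ι (π b.unop)) = _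
      rw [hιπ, show (x : A) * (e * b.unop * e) = (x : A) * e * b.unop * e by simp only [mul_assoc], hM]
      simp only [mul_assoc]
    | add x y hx hy => simp only [map_add, LinearMap.add_apply, hx, hy, Submodule.coe_add]
  refine ⟨AlgEquiv.ofBijective ρ ⟨(injective_iff_map_eq_zero _).2 fun t ht => ?_, fun F => ?_⟩⟩
  · have h : Φ t = 0 := (IsAzumaya.bij (R := R) (A := A)).1 (LinearMap.ext fun g => by
      rw [h1, ht]; simp)
    rw [← hΞΦ t, h, map_zero]
  · obtain ⟨u, hu⟩ := (IsAzumaya.bij (R := R) (A := A)).2 (M.subtype ∘ₗ F ∘ₗ p)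
    refine ⟨Ξ u, LinearMap.ext fun x => Subtype.ext ?_⟩
    rw [h2, hu]
    show (p ((F (p (x : A))) : A) : A) = _
    rw [hp, hM, show p (x : A) = x from Subtype.ext (hM x)]

end Groth.Agent.AzumayaAlg
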